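import Cfsg.Agent.H298.HT.Vac
import Cfsg.Agent.H218.HT.DDChev
import Cfsg.Agent.S2121

/-!
# S4933, own characteristic: `G₂(q)`, `q = 3 ^ f`: the row is vacuous (helper103)

The quotient of `U` by the roots of height at least `3` has a centre of index at most `q²`; the linear characters of the
abelian group of the roots of height at least `2` have orbits of length `q²`; `|Out| = 2 f < q`.
-/

set_option autoImplicit false

namespace Cfsg.Agent.H103.HT.GThree

open Cfsg Cfsg.Lie Cfsg.Agent.ChevalleyStructure Cfsg.Agent.ChevalleyStructure.Elts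
  Cfsg.Agent.ChevalleyStructure.UnipOrd Cfsg.Agent.ChevalleyStructure.UnipProd Cfsg.Agent.H218.HT
open Cfsg.Agent.H316.HT (Row)

universe u

theorem hG : UnipOrd.InList chevG2 := by simp

variable (F : Type u) [Field F]

/-- the unipotent radical -/
abbrev P0 : Subgroup (GL chevG2.Idx F) := chevG2.posUnipotent F

variable {F}

theorem pos {k : ℕ} (h1 : 6 ≤ k) (h2 : k < 12) : chevG2.IsPosRoot k :=
  pos_of hG (by rw [show chevG2.nroots = 12 by decide +kernel]; omega) (by
    rw [show chevG2.nroots = 12 by decide +kernel]; omega)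

theorem of_pos {k : ℕ} (h : chevG2.IsPosRoot k) : 6 ≤ k ∧ k < 12 := by
  have h1 := (isPosRoot_iff hG k).1 h
  rw [show chevG2.nroots = 12 by decide +kernel] at h1
  omega

/-- commutators with roots of height at least two -/
theorem comm_mod {r s : ℕ} (hr : chevG2.IsPosRoot r) (hs : chevG2.IsPosRoot s) (h : 8 ≤ s) (t u : F) :
    (xG hG r t * xG hG s u)⁻¹ * (xG hG s u * xG hG r t) ∈ unipGE chevG2 F 9 := by
  by_cases hrs : s = r
  · subst hrs
    rw [xG_add, xG_add, add_comm u t, inv_mul_cancel]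
    exact Subgroup.one_mem _
  · rw [xG_comm hG hr.1 hs.1 hrs (ne_neg_of_pos hG hr hs), inv_mul_cancel_left]
    exact wordG_commWord_mem hG hr hs t u (Or.inr (by omega))

instance nrm (k : ℕ) : ((unipGE chevG2 F k).subgroupOf (P0 F)).Normal where
  conj_mem _ hn g := Subgroup.mem_subgroupOf.2 (conj_mem_of_mem_posUnipotent hG g.2 (Subgroup.mem_subgroupOf.1 hn))

/-- the elements of `U` -/
noncomputable def Z (k : ℕ) (h1 : 6 ≤ k) (h2 : k < 12) (t : F) : P0 F := ⟨xG hG k t, xG_mem_posUnipotent hG (pos h1 h2) t⟩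

/-- the elements of the abelian normal subgroup -/
noncomputable def Y (k : ℕ) (h1 : 8 ≤ k) (h2 : k < 12) (t : F) : ↥((unipGE chevG2 F 8).subgroupOf (P0 F)) :=
  ⟨Z k (by omega) h2 t, Subgroup.mem_subgroupOf.2 (xG_mem_unipGE hG (pos (by omega) h2) h1 t)⟩

theorem Y_add {k : ℕ} (h1 : 8 ≤ k) (h2 : k < 12) (s t : F) : Y k h1 h2 (s + t) = Y k h1 h2 s * Y k h1 h2 t :=
  Subtype.ext (Subtype.ext (xG_add hG k s t).symm)

/-- the quotient of class two -/
abbrev T (F : Type u) [Field F] : Type u := ↥(P0 F) ⧸ (unipGE chevG2 F 9).subgroupOf (P0 F)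

theorem le_center : ((unipGE chevG2 F 8).subgroupOf (P0 F)).map (QuotientGroup.mk' ((unipGE chevG2 F 9).subgroupOf (P0 F))) ≤
    Subgroup.center (T F) := by
  have key : unipGE chevG2 F 8 ≤ ((Subgroup.center (T F)).comap
      (QuotientGroup.mk' ((unipGE chevG2 F 9).subgroupOf (P0 F)))).map (P0 F).subtype := by
    refine (unipGE_le_iff hG 8 _).2 fun s hs h8 u => ?_
    refine ⟨⟨xG hG s u, xG_mem_posUnipotent hG hs u⟩, ?_, rfl⟩
    rw [SetLike.mem_coe, Subgroup.mem_comap, Subgroup.mem_center_iff]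
    intro z
    obtain ⟨v, rfl⟩ := QuotientGroup.mk'_surjective _ z
    have h1 : P0 F ≤ ((Subgroup.centralizer {(QuotientGroup.mk' ((unipGE chevG2 F 9).subgroupOf (P0 F)))
        ⟨xG hG s u, xG_mem_posUnipotent hG hs u⟩}).comap
        (QuotientGroup.mk' ((unipGE chevG2 F 9).subgroupOf (P0 F)))).map (P0 F).subtype := by
      refine (posUnipotent_le_iff hG _).2 fun r hr t => ?_
      refine ⟨⟨xG hG r t, xG_mem_posUnipotent hG hr t⟩, ?_, rfl⟩
      rw [SetLike.mem_coe, Subgroup.mem_comap, Subgroup.mem_centralizer_singleton_iff]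
      rw [← map_mul, ← map_mul]
      refine QuotientGroup.eq.2 ?_
      rw [Subgroup.mem_subgroupOf]
      exact comm_mod hr hs h8 t u
    obtain ⟨w, hw, hwv⟩ := h1 v.2
    have h2 : w = v := Subtype.ext hwv
    subst h2
    rw [SetLike.mem_coe, Subgroup.mem_comap, Subgroup.mem_centralizer_singleton_iff] at hw
    exact hw
  rw [Subgroup.map_le_iff_le_comap]
  intro c hc
  obtain ⟨w, hw, hwc⟩ := key (Subgroup.mem_subgroupOf.1 hc)
  have h2 : w = c := Subtype.ext hwc
  subst h2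
  exact hw

theorem index_le [Finite F] : ((unipGE chevG2 F 8).subgroupOf (P0 F)).index ≤ Nat.card F ^ 2 := by
  have h1 : Nat.card (F × F) = Nat.card F ^ 2 := by rw [Nat.card_prod, sq]
  rw [← h1]
  have hs : Function.Surjective fun ab : F × F =>
      (QuotientGroup.mk (Z 6 (by norm_num) (by norm_num) ab.1 * Z 7 (by norm_num) (by norm_num) ab.2) :
        ↥(P0 F) ⧸ (unipGE chevG2 F 8).subgroupOf (P0 F)) := by
    intro z
    obtain ⟨g, rfl⟩ := QuotientGroup.mk_surjective z
    have h2 : (g : GL chevG2.Idx F) ∈ unipGE chevG2 F 6 := by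
      rw [unipGE_eq_posUnipotent hG F (by decide +kernel)]
      exact g.2
    obtain ⟨a, v, hv, hg⟩ := exists_of_mem_unipGE hG (pos (by norm_num) (by norm_num)) h2
    obtain ⟨b, w, hw, hv'⟩ := exists_of_mem_unipGE hG (k := 7) (pos (by norm_num) (by norm_num)) hv
    refine ⟨(a, b), QuotientGroup.eq.2 (Subgroup.mem_subgroupOf.2 ?_)⟩
    have h3 : (((Z 6 (by norm_num) (by norm_num) a * Z 7 (by norm_num) (by norm_num) b : P0 F)⁻¹ * g : P0 F) :
        GL chevG2.Idx F) = w := by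
      show (xG hG 6 a * xG hG 7 b)⁻¹ * (g : GL chevG2.Idx F) = w
      rw [hg, hv', ← mul_assoc (xG hG 6 a), inv_mul_cancel_left]
    rw [h3]
    exact hw
  exact Nat.card_le_card_of_surjective _ hs

theorem center_le [Finite F] : (Subgroup.center (T F)).index ≤ Nat.card F ^ 2 := by
  refine le_trans ?_ (index_le (F := F))
  have h1 : (((unipGE chevG2 F 8).subgroupOf (P0 F)).map
      (QuotientGroup.mk' ((unipGE chevG2 F 9).subgroupOf (P0 F)))).index ∣
      ((unipGE chevG2 F 8).subgroupOf (P0 F)).index :=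
    Subgroup.index_map_dvd _ (QuotientGroup.mk'_surjective _)
  refine (Nat.le_of_dvd (Nat.pos_of_ne_zero Subgroup.index_ne_zero_of_finite)
    (Subgroup.index_dvd_of_le le_center)).trans (Nat.le_of_dvd (Nat.pos_of_ne_zero Subgroup.index_ne_zero_of_finite) h1)

/-- the quotient is not abelian -/
theorem not_comm : (QuotientGroup.mk (Z 6 (by norm_num) (by norm_num) 1) : T F) *
    QuotientGroup.mk (Z 7 (by norm_num) (by norm_num) 1) ≠
      (QuotientGroup.mk (Z 7 (by norm_num) (by norm_num) 1) : T F) * QuotientGroup.mk (Z 6 (by norm_num) (by norm_num) 1) := by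
  intro h
  rw [← QuotientGroup.mk_mul, ← QuotientGroup.mk_mul] at h
  have h1 := Subgroup.mem_subgroupOf.1 (QuotientGroup.eq.1 h)
  have h2 : (xG hG 6 (1 : F) * xG hG 7 1)⁻¹ * (xG hG 7 1 * xG hG 6 1) ∈ unipGE chevG2 F 9 := h1
  rw [xG_comm hG (r := 6) (s := 7) (pos (by norm_num) (by norm_num)).1 (pos (by norm_num) (by norm_num)).1 (by norm_num)
    (ne_neg_of_pos hG (pos (by norm_num) (by norm_num)) (pos (by norm_num) (by norm_num))), inv_mul_cancel_left] at h2
  unfold ChevalleyDatum.commWord at h2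
  rw [show chevG2.commTerms 6 7 = [(8, 1, 1, 1), (9, 1, 1, 2), (10, -1, 1, 3), (11, -2, 2, 3)] by decide +kernel] at h2
  have h3 : wordG hG [(8, ((1 : ℤ) : F) * (-1) ^ 1 * 1 ^ 1), (9, ((1 : ℤ) : F) * (-1) ^ 1 * 1 ^ 2),
      (10, ((-1 : ℤ) : F) * (-1) ^ 1 * 1 ^ 3), (11, ((-2 : ℤ) : F) * (-1) ^ 2 * 1 ^ 3)] ∈ unipGE chevG2 F 9 := h2
  rw [wordG_cons] at h3
  have h4 : wordG hG [(9, ((1 : ℤ) : F) * (-1) ^ 1 * 1 ^ 2),
      (10, ((-1 : ℤ) : F) * (-1) ^ 1 * 1 ^ 3), (11, ((-2 : ℤ) : F) * (-1) ^ 2 * 1 ^ 3)] ∈ unipGE chevG2 F 9 := by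
    refine mem_of_xG_mem hG fun p hp => ?_
    fin_cases hp
    · exact xG_mem_unipGE hG (pos (by norm_num) (by norm_num)) (by norm_num) _
    · exact xG_mem_unipGE hG (pos (by norm_num) (by norm_num)) (by norm_num) _
    · exact xG_mem_unipGE hG (pos (by norm_num) (by norm_num)) (by norm_num) _
  have h5 := (Subgroup.mul_mem_cancel_right _ h4).1 h3
  obtain ⟨t, ht, he⟩ := exists_prod hG (k := 9) (by decide +kernel) h5
  have h6 : wordG hG ((rootsGE chevG2 8).map fun r => (r, if r = 8 then ((1 : ℤ) : F) * (-1) ^ 1 * 1 ^ 1 else 0)) =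
      wordG hG ((rootsGE chevG2 8).map fun r => (r, t r)) := by
    have h8 : t 8 = 0 := ht 8 (by omega)
    rw [rootsGE_cons (by decide +kernel), List.map_cons, List.map_cons, wordG_cons, wordG_cons, ← he, h8, if_pos rfl,
      xG_zero, one_mul]
    have h9 : rootsGE chevG2 9 = [9, 10, 11] := by decide +kernel
    rw [h9]
    show xG hG 8 _ * wordG hG [(9, if 9 = 8 then _ else (0 : F)), (10, if 10 = 8 then _ else (0 : F)),
      (11, if 11 = 8 then _ else (0 : F))] = _
    rw [if_neg (by norm_num), if_neg (by norm_num), if_neg (by norm_num), wordG_cons, wordG_cons, wordG_cons, wordG_nil,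
      xG_zero, xG_zero, xG_zero, one_mul, one_mul, one_mul, mul_one]
  have h7 := prod_injective hG (by decide +kernel) h6 8 (le_refl _) (by decide +kernel)
  rw [if_pos rfl, ht 8 (by omega)] at h7
  norm_num at h7

/-! ### characteristic 3 -/

section Three

variable (h3 : (3 : F) = 0)

include h3

theorem comm_lt {r s : ℕ} (hr : 8 ≤ r) (hrs : r < s) (hs : s < 12) (t u : F) :
    xG hG s u * xG hG r t = xG hG r t * xG hG s u := by
  have hp := pos (k := r) (by omega) (by omega)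
  have hq := pos (k := s) (by omega) (by omega)
  have h1 := xG_comm hG hp.1 hq.1 (by omega) (ne_neg_of_pos hG hp hq) t u
  have h2 : wordG hG (chevG2.commWord F r s t u) = 1 := by
    have h8 : r = 8 ∨ r = 9 ∨ r = 10 := by omega
    have h9 : s = 9 ∨ s = 10 ∨ s = 11 := by omega
    unfold ChevalleyDatum.commWord
    by_cases h89 : r = 8 ∧ s = 9
    · obtain ⟨rfl, rfl⟩ := h89
      rw [show chevG2.commTerms 8 9 = [(11, 3, 1, 1)] by decide +kernel]
      show wordG hG [(11, ((3 : ℤ) : F) * (-t) ^ 1 * u ^ 1)] = 1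
      rw [wordG_cons, wordG_nil, mul_one]
      push_cast
      rw [h3, zero_mul, zero_mul, xG_zero]
    · have h0 : chevG2.commTerms r s = [] := by
        rcases h8 with rfl | rfl | rfl <;> rcases h9 with rfl | rfl | rfl <;>
          first
            | omega
            | decide +kernel
      rw [h0]
      rfl
  rw [h2, mul_one] at h1
  exact h1

theorem comm_ge {r s : ℕ} (hr : 8 ≤ r) (hr' : r < 12) (hs : 8 ≤ s) (hs' : s < 12) (t u : F) :
    xG hG s u * xG hG r t = xG hG r t * xG hG s u := by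
  rcases lt_trichotomy r s with h | h | h
  · exact comm_lt h3 hr h hs' t u
  · subst h
    rw [xG_add, xG_add, add_comm]
  · exact (comm_lt h3 hs h hr' u t).symm

theorem abel {g h : GL chevG2.Idx F} (hg : g ∈ unipGE chevG2 F 8) (hh : h ∈ unipGE chevG2 F 8) : g * h = h * g := by
  have key : unipGE chevG2 F 8 ≤ Subgroup.centralizer (unipGE chevG2 F 8 : Set (GL chevG2.Idx F)) := by
    refine (unipGE_le_iff hG 8 _).2 fun r hr h8 t => ?_
    rw [Subgroup.mem_centralizer_iff]
    intro k hk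
    have h1 : unipGE chevG2 F 8 ≤ Subgroup.centralizer {xG hG r t} := by
      refine (unipGE_le_iff hG 8 _).2 fun s hs h8' u => ?_
      rw [Subgroup.mem_centralizer_singleton_iff]
      exact comm_ge h3 h8 (of_pos hr).2 h8' (of_pos hs).2 t u
    exact Subgroup.mem_centralizer_singleton_iff.1 (h1 hk)
  exact Subgroup.mem_centralizer_iff.1 (key hh) g hg

theorem conj_eight (a b t : F) (i : P0 F)
    (hi : i = Z 6 (by norm_num) (by norm_num) a * Z 7 (by norm_num) (by norm_num) b) :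
    MulAut.conjNormal i (Y 8 (by norm_num) (by norm_num) t) =
      Y 8 (by norm_num) (by norm_num) t * Y 9 (by norm_num) (by norm_num) (b * t) := by
  subst hi
  apply Subtype.ext
  apply Subtype.ext
  show xG hG 6 a * xG hG 7 b * xG hG 8 t * (xG hG 6 a * xG hG 7 b)⁻¹ = xG hG 8 t * xG hG 9 (b * t)
  have c1 : xG hG 7 b * xG hG 8 t = xG hG 8 t * xG hG 9 (b * t) * xG hG 7 b := by
    have h1 := xG_comm hG (r := 7) (s := 8) (pos (by norm_num) (by norm_num)).1 (pos (by norm_num) (by norm_num)).1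
      (by norm_num) (ne_neg_of_pos hG (pos (by norm_num) (by norm_num)) (pos (by norm_num) (by norm_num))) (-b) t
    unfold ChevalleyDatum.commWord at h1
    rw [show chevG2.commTerms 7 8 = [(9, -2, 1, 1), (10, -3, 2, 1), (11, 3, 1, 2)] by decide +kernel] at h1
    have h2 : xG hG 8 t * xG hG 7 (-b) = xG hG 7 (-b) * xG hG 8 t * wordG hG [(9, ((-2 : ℤ) : F) * (- -b) ^ 1 * t ^ 1),
      (10, ((-3 : ℤ) : F) * (- -b) ^ 2 * t ^ 1), (11, ((3 : ℤ) : F) * (- -b) ^ 1 * t ^ 2)] := h1
    rw [wordG_cons, wordG_cons, wordG_cons, wordG_nil] at h2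
    push_cast at h2
    have h4 : (-2 : F) * (- -b) ^ 1 * t ^ 1 = b * t := by
      rw [neg_neg, pow_one, pow_one]
      linear_combination (-(b * t)) * h3
    rw [h4, h3, neg_zero, zero_mul, zero_mul, zero_mul, zero_mul, xG_zero, xG_zero, one_mul, one_mul, mul_one] at h2
    have h5 : xG hG 7 b * (xG hG 8 t * xG hG 7 (-b)) * xG hG 7 b = xG hG 7 b * xG hG 8 t := by
      rw [mul_assoc, mul_assoc, xG_add, neg_add_cancel, xG_zero, mul_one]
    rw [← h5, h2]
    rw [mul_assoc (xG hG 7 (-b)), ← mul_assoc (xG hG 7 b), xG_add, add_neg_cancel, xG_zero, one_mul]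
  have c2 : ∀ u : F, xG hG 8 u * xG hG 6 a = xG hG 6 a * xG hG 8 u := fun u => comm_none hG
    (pos (by norm_num) (by norm_num)).1 (pos (by norm_num) (by norm_num)).1 (by norm_num)
    (ne_neg_of_pos hG (pos (by norm_num) (by norm_num)) (pos (by norm_num) (by norm_num))) (by decide +kernel) a u
  have c3 : ∀ u : F, xG hG 9 u * xG hG 6 a = xG hG 6 a * xG hG 9 u := fun u => comm_none hG
    (pos (by norm_num) (by norm_num)).1 (pos (by norm_num) (by norm_num)).1 (by norm_num)
    (ne_neg_of_pos hG (pos (by norm_num) (by norm_num)) (pos (by norm_num) (by norm_num))) (by decide +kernel) a u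
  rw [mul_inv_eq_iff_eq_mul, mul_assoc, c1, ← mul_assoc, ← mul_assoc, ← mul_assoc, ← c2, mul_assoc (xG hG 8 t), ← c3]
  simp only [mul_assoc]

omit h3 in
theorem conj_ten (a b t : F) (i : P0 F)
    (hi : i = Z 6 (by norm_num) (by norm_num) a * Z 7 (by norm_num) (by norm_num) b) :
    MulAut.conjNormal i (Y 10 (by norm_num) (by norm_num) t) =
      Y 10 (by norm_num) (by norm_num) t * Y 11 (by norm_num) (by norm_num) (a * t) := by
  subst hi
  apply Subtype.ext
  apply Subtype.ext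
  show xG hG 6 a * xG hG 7 b * xG hG 10 t * (xG hG 6 a * xG hG 7 b)⁻¹ = xG hG 10 t * xG hG 11 (a * t)
  have c1 : xG hG 6 a * xG hG 10 t = xG hG 10 t * xG hG 11 (a * t) * xG hG 6 a := by
    have h1 := xG_comm hG (r := 6) (s := 10) (pos (by norm_num) (by norm_num)).1 (pos (by norm_num) (by norm_num)).1
      (by norm_num) (ne_neg_of_pos hG (pos (by norm_num) (by norm_num)) (pos (by norm_num) (by norm_num))) (-a) t
    unfold ChevalleyDatum.commWord at h1
    rw [show chevG2.commTerms 6 10 = [(11, 1, 1, 1)] by decide +kernel] at h1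
    have h2 : xG hG 10 t * xG hG 6 (-a) = xG hG 6 (-a) * xG hG 10 t *
      wordG hG [(11, ((1 : ℤ) : F) * (- -a) ^ 1 * t ^ 1)] := h1
    rw [wordG_cons, wordG_nil, mul_one] at h2
    have h4 : ((1 : ℤ) : F) * (- -a) ^ 1 * t ^ 1 = a * t := by
      rw [neg_neg, pow_one, pow_one, Int.cast_one, one_mul]
    rw [h4] at h2
    have h5 : xG hG 6 a * (xG hG 10 t * xG hG 6 (-a)) * xG hG 6 a = xG hG 6 a * xG hG 10 t := by
      rw [mul_assoc, mul_assoc, xG_add, neg_add_cancel, xG_zero, mul_one]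
    rw [← h5, h2]
    rw [mul_assoc (xG hG 6 (-a)), ← mul_assoc (xG hG 6 a), xG_add, add_neg_cancel, xG_zero, one_mul]
  have c2 : ∀ u : F, xG hG 10 u * xG hG 7 b = xG hG 7 b * xG hG 10 u := fun u => comm_none hG
    (pos (by norm_num) (by norm_num)).1 (pos (by norm_num) (by norm_num)).1 (by norm_num)
    (ne_neg_of_pos hG (pos (by norm_num) (by norm_num)) (pos (by norm_num) (by norm_num))) (by decide +kernel) b u
  rw [mul_inv_eq_iff_eq_mul, mul_assoc, ← c2, ← mul_assoc, c1, mul_assoc]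

/-- **a character of degree at least `q²`** -/
theorem exists_irr [Finite F] : ∃ θ : IrrCharacter (P0 F), Nat.card F ^ 2 ≤ charDegree (θ : P0 F → ℂ) := by
  have : Finite (P0 F) := inferInstance
  have hab : ∀ x y : ↥((unipGE chevG2 F 8).subgroupOf (P0 F)), x * y = y * x := fun x y =>
    Subtype.ext (Subtype.ext (abel h3 (Subgroup.mem_subgroupOf.1 x.2) (Subgroup.mem_subgroupOf.1 y.2)))
  have hne : ∀ (k : ℕ) (h1 : 8 ≤ k) (h2 : k < 12), Y k h1 h2 (1 : F) ∉ (⊥ : Subgroup ↥((unipGE chevG2 F 8).subgroupOf (P0 F))) := by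
    intro k h1 h2 h
    have h4 : xG hG k (1 : F) = 1 := congrArg (fun x : ↥((unipGE chevG2 F 8).subgroupOf (P0 F)) =>
      ((x : P0 F) : GL chevG2.Idx F)) (Subgroup.mem_bot.1 h)
    rw [xG_eq_one_iff hG (pos (by omega) h2).1] at h4
    exact one_ne_zero h4
  obtain ⟨l1, -, hl1⟩ := H40.HT.exists_lam hab ⊥ (hne 9 (by norm_num) (by norm_num))
  obtain ⟨l2, -, hl2⟩ := H40.HT.exists_lam hab ⊥ (hne 11 (by norm_num) (by norm_num))
  obtain ⟨lam, h9, h11⟩ : ∃ lam : ↥((unipGE chevG2 F 8).subgroupOf (P0 F)) →* ℂˣ,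
      lam (Y 9 (by norm_num) (by norm_num) 1) ≠ 1 ∧ lam (Y 11 (by norm_num) (by norm_num) 1) ≠ 1 := by
    by_cases h1 : l1 (Y 11 (by norm_num) (by norm_num) 1) = 1
    · by_cases h2 : l2 (Y 9 (by norm_num) (by norm_num) 1) = 1
      · refine ⟨l1 * l2, ?_, ?_⟩
        · rw [MonoidHom.mul_apply, h2, mul_one]; exact hl1
        · rw [MonoidHom.mul_apply, h1, one_mul]; exact hl2
      · exact ⟨l2, h2, hl2⟩
    · exact ⟨l1, hl1, h1⟩
  obtain ⟨θ, hθ⟩ := H298.HT.exists_irr_of_fam ((unipGE chevG2 F 8).subgroupOf (P0 F)) lam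
    (fun ab : F × F => Z 6 (by norm_num) (by norm_num) ab.1 * Z 7 (by norm_num) (by norm_num) ab.2) (by
      intro i j hij
      by_cases hb : i.2 = j.2
      · have ha : i.1 - j.1 ≠ 0 := fun h => hij (Prod.ext (sub_eq_zero.1 h) hb)
        refine ⟨Y 10 (by norm_num) (by norm_num) (i.1 - j.1)⁻¹, fun h => h11 ?_⟩
        rw [conj_ten i.1 i.2 _ _ rfl, conj_ten j.1 j.2 _ _ rfl, map_mul, map_mul] at h
        have h1 := mul_left_cancel h
        have h2 : i.1 * (i.1 - j.1)⁻¹ = 1 + j.1 * (i.1 - j.1)⁻¹ := by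
          field_simp
          ring
        rw [h2, Y_add, map_mul] at h1
        exact mul_eq_right.1 h1
      · have ha : i.2 - j.2 ≠ 0 := fun h => hb (sub_eq_zero.1 h)
        refine ⟨Y 8 (by norm_num) (by norm_num) (i.2 - j.2)⁻¹, fun h => h9 ?_⟩
        rw [conj_eight h3 i.1 i.2 _ _ rfl, conj_eight h3 j.1 j.2 _ _ rfl, map_mul, map_mul] at h
        have h1 := mul_left_cancel h
        have h2 : i.2 * (i.2 - j.2)⁻¹ = 1 + j.2 * (i.2 - j.2)⁻¹ := by
          field_simp
          ring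
        rw [h2, Y_add, map_mul] at h1
        exact mul_eq_right.1 h1)
  rw [Nat.card_prod, ← sq] at hθ
  exact ⟨θ, hθ⟩

end Three

theorem two_mul_lt (f : ℕ) : 2 * f < 3 ^ f := by
  induction f with
  | zero => norm_num
  | succ n ih => rw [pow_succ]; omega

variable (F)

/-- **`G₂(3 ^ f)`** -/
theorem row_G2 [Fintype F] [CharP F 3] : Row 3 ↥(chevG2.group F) := by
  have : Fact (Nat.Prime 3) := ⟨Nat.prime_three⟩
  have h3 : (3 : F) = 0 := by
    have := CharP.cast_eq_zero F 3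
    exact_mod_cast this
  obtain ⟨f, -, hF⟩ := FiniteField.card F 3
  have hf : 1 ≤ (f : ℕ) := f.2
  have hq : 3 ≤ 3 ^ (f : ℕ) := by
    calc 3 = 3 ^ 1 := rfl
      _ ≤ 3 ^ (f : ℕ) := Nat.pow_le_pow_right (by norm_num) hf
  have hk : (MulAut.conj : ↥(chevG2.group F) →* MulAut ↥(chevG2.group F)).range.index ≤ 2 * f := by
    have h1 := Cfsg.Agent.S2121.result 3 (f : ℕ) hF hq
    rw [if_pos rfl] at h1
    exact le_of_eq h1
  obtain ⟨U, hU⟩ := Cfsg.Agent.S2326.result (F := F) 3 chevG2 hG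
  have hle : chevG2.posUnipotent F ≤ chevG2.group F := by
    refine (posUnipotent_le_iff hG _).2 fun r _ t => xG_mem_group hG r t
  let e : ↥(U : Subgroup ↥(chevG2.group F)) ≃* P0 F :=
    (MulEquiv.subgroupCongr hU).trans (Subgroup.subgroupOfEquivOfLe hle)
  obtain ⟨θ, hθ⟩ := exists_irr (F := F) h3
  have hcard : Nat.card F = 3 ^ (f : ℕ) := by rw [Nat.card_eq_fintype_card, hF]
  refine H298.HT.row_of_vac hk U ((QuotientGroup.mk' ((unipGE chevG2 F 9).subgroupOf (P0 F))).comp e.toMonoidHom)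
    ((QuotientGroup.mk'_surjective _).comp e.surjective) not_comm center_le (Subgroup.inclusion hle)
    (Subgroup.inclusion_injective hle) ?_ θ ?_
  · have h1 : IsPGroup 3 ↥(U : Subgroup ↥(chevG2.group F)) := U.2
    exact h1.of_equiv e
  · have h1 : (2 * (f : ℕ)) ^ 2 * Nat.card F ^ 2 < (Nat.card F ^ 2) ^ 2 := by
      rw [hcard]
      have h2 := two_mul_lt (f : ℕ)
      have h4 : 0 < (3 ^ (f : ℕ)) ^ 2 := by positivity
      rw [sq ((3 ^ (f : ℕ)) ^ 2)]
      exact Nat.mul_lt_mul_of_pos_right (Nat.pow_lt_pow_left h2 (by norm_num)) h4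
    exact h1.trans_le (Nat.pow_le_pow_left hθ 2)

end Cfsg.Agent.H103.HT.GThree
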