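import Cfsg.Agent.H103.HT.LowSp
import Cfsg.Agent.LieClassical.SLGen
import Cfsg.Agent.S0280

/-!
# S4933, (R6): the lower bound data `Low p (PSL_n(q)) q`, `n ≥ 3` (helper103)

* `low_sl` : three different indices `i, j, k`: `A` the root groups `(i, k)`, `(j, k)`, `X` the root group `(i, j)`;
* `low_psl`.
-/

set_option autoImplicit false
set_option linter.unusedSectionVars false

open Cfsg

namespace Cfsg.Agent.H103.HT

open Cfsg.Agent.H40.HT Matrix Cfsg.Agent.LieClassical.SLGen
open scoped commutatorElement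

universe u v w

section sl

variable {F : Type u} [Field F] {ι : Type v} [Fintype ι] [DecidableEq ι]

theorem tv_mul {i j : ι} (hij : i ≠ j) (a b : F) : SpecialLinearGroup.transvection hij a *
    SpecialLinearGroup.transvection hij b = SpecialLinearGroup.transvection hij (a + b) := by
  apply smul_ext
  intro v
  simp only [mul_smul, transvection_smul]
  ext l
  by_cases hl : l = i
  · subst hl
    simp [hij.symm]
    ring
  · simp [hl]

theorem tv_zero {i j : ι} (hij : i ≠ j) : SpecialLinearGroup.transvection hij (0 : F) = 1 := by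
  apply smul_ext
  intro v
  rw [transvection_smul, zero_mul, zero_smul, add_zero, one_smul]

theorem tv_inv {i j : ι} (hij : i ≠ j) (a : F) : (SpecialLinearGroup.transvection hij a)⁻¹ =
    SpecialLinearGroup.transvection hij (-a) := by
  rw [inv_eq_iff_mul_eq_one, tv_mul, add_neg_cancel, tv_zero]

theorem tv_inj {i j : ι} (hij : i ≠ j) {a b : F} (h : SpecialLinearGroup.transvection hij a =
    SpecialLinearGroup.transvection hij b) : a = b := by
  have h1 := congrArg (fun A : SpecialLinearGroup ι F => (A • (Pi.single j 1 : ι → F)) i) h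
  simpa [transvection_smul, hij] using h1

theorem tv_pow {i j : ι} (hij : i ≠ j) (a : F) (n : ℕ) : SpecialLinearGroup.transvection hij a ^ n =
    SpecialLinearGroup.transvection hij (n * a) := by
  induction n with
  | zero => rw [pow_zero, Nat.cast_zero, zero_mul, tv_zero]
  | succ n ih => rw [pow_succ, ih, tv_mul]; congr 1; push_cast; ring

/-- `(i, k)` and `(j, k)` commute -/
theorem tv_comm {i j k : ι} (hik : i ≠ k) (hjk : j ≠ k) (a b : F) : SpecialLinearGroup.transvection hik a *
    SpecialLinearGroup.transvection hjk b = SpecialLinearGroup.transvection hjk b *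
    SpecialLinearGroup.transvection hik a := by
  apply smul_ext
  intro v
  simp only [mul_smul, transvection_smul]
  ext l
  simp [hik.symm, hjk.symm]
  ring

/-- `(i, j)` and `(i, k)` commute -/
theorem tv_comm' {i j k : ι} (hij : i ≠ j) (hik : i ≠ k) (a b : F) : SpecialLinearGroup.transvection hij a *
    SpecialLinearGroup.transvection hik b = SpecialLinearGroup.transvection hik b *
    SpecialLinearGroup.transvection hij a := by
  apply smul_ext
  intro v
  simp only [mul_smul, transvection_smul]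
  ext l
  simp [hij.symm, hik.symm]
  ring

/-- the abelian subgroup -/
def lA (F : Type u) [Field F] {i j k : ι} (hik : i ≠ k) (hjk : j ≠ k) : Subgroup (SpecialLinearGroup ι F) where
  carrier := {g | ∃ a b, g = SpecialLinearGroup.transvection hik a * SpecialLinearGroup.transvection hjk b}
  one_mem' := ⟨0, 0, by rw [tv_zero, tv_zero, one_mul]⟩
  mul_mem' := by
    rintro _ _ ⟨a, b, rfl⟩ ⟨a', b', rfl⟩
    refine ⟨a + a', b + b', ?_⟩
    rw [← tv_mul, ← tv_mul, mul_assoc, mul_assoc, ← mul_assoc _ (SpecialLinearGroup.transvection hik a'),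
      ← tv_comm hik hjk a' b, mul_assoc]
  inv_mem' := by
    rintro _ ⟨a, b, rfl⟩
    refine ⟨-a, -b, ?_⟩
    rw [_root_.mul_inv_rev, tv_inv, tv_inv, tv_comm]

/-- a root group -/
def lX (F : Type u) [Field F] {i j : ι} (hij : i ≠ j) : Subgroup (SpecialLinearGroup ι F) where
  carrier := {g | ∃ a, g = SpecialLinearGroup.transvection hij a}
  one_mem' := ⟨0, (tv_zero _).symm⟩
  mul_mem' := by
    rintro _ _ ⟨a, rfl⟩ ⟨a', rfl⟩
    exact ⟨_, tv_mul _ _ _⟩
  inv_mem' := by
    rintro _ ⟨a, rfl⟩
    exact ⟨_, tv_inv _ _⟩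

theorem low_sl {p : ℕ} [CharP F p] {i j k : ι} (hij : i ≠ j) (hik : i ≠ k) (hjk : j ≠ k) :
    Low p (SpecialLinearGroup ι F) (Nat.card F) := by
  have hpA : IsPGroup p (lA F hik hjk) := by
    rintro ⟨_, a, b, rfl⟩
    refine ⟨1, Subtype.ext ?_⟩
    show (SpecialLinearGroup.transvection hik a * SpecialLinearGroup.transvection hjk b) ^ p ^ 1 = 1
    have hcab : Commute (SpecialLinearGroup.transvection hik a) (SpecialLinearGroup.transvection hjk b) :=
      tv_comm hik hjk a b
    rw [pow_one, hcab.mul_pow, tv_pow, tv_pow, CharP.cast_eq_zero, zero_mul, zero_mul, tv_zero,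
      tv_zero, one_mul]
  have hpX : IsPGroup p (lX F hij) := by
    rintro ⟨_, t, rfl⟩
    refine ⟨1, Subtype.ext ?_⟩
    show SpecialLinearGroup.transvection hij t ^ p ^ 1 = 1
    rw [pow_one, tv_pow, CharP.cast_eq_zero, zero_mul, tv_zero]
  have hcm : ∀ t c : F, SpecialLinearGroup.transvection hij t * SpecialLinearGroup.transvection hjk c *
      (SpecialLinearGroup.transvection hij t)⁻¹ * (SpecialLinearGroup.transvection hjk c)⁻¹ =
      SpecialLinearGroup.transvection hik (t * c) := by
    intro t c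
    have h1 := commutator_transvection hik hij hjk t c
    rwa [commutatorElement_def] at h1
  have hc : ∀ x ∈ lX F hij, ∀ y ∈ lA F hik hjk, x * y * x⁻¹ ∈ lA F hik hjk := by
    rintro _ ⟨t, rfl⟩ _ ⟨a, b, rfl⟩
    refine ⟨a + t * b, b, ?_⟩
    have h1 := hcm t b
    rw [mul_inv_eq_iff_eq_mul] at h1
    rw [← mul_assoc, tv_comm' hij hik t a, mul_assoc (SpecialLinearGroup.transvection hik a),
      mul_assoc (SpecialLinearGroup.transvection hik a), h1, ← tv_mul, mul_assoc]
  have hn : lX F hij ≤ Subgroup.normalizer (lA F hik hjk : Set (SpecialLinearGroup ι F)) := by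
    intro x hx
    rw [Subgroup.mem_normalizer_iff]
    intro y
    refine ⟨hc x hx y, fun hy => ?_⟩
    have h8 := hc x⁻¹ ((lX F hij).inv_mem hx) _ hy
    simpa [mul_assoc] using h8
  refine Low.of_heis (lA F hik hjk) (lX F hij) ?_ hc ?_ (SpecialLinearGroup.transvection hik 1)
    ⟨1, 0, by rw [tv_zero, mul_one]⟩ ?_ ?_ ?_
  · exact hpA.to_sup_of_normal_left' hpX hn
  · rintro _ ⟨a, b, rfl⟩ _ ⟨a', b', rfl⟩
    have e : ∀ a b a' b' : F, SpecialLinearGroup.transvection hik a * SpecialLinearGroup.transvection hjk b *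
        (SpecialLinearGroup.transvection hik a' * SpecialLinearGroup.transvection hjk b') =
        SpecialLinearGroup.transvection hik (a + a') * SpecialLinearGroup.transvection hjk (b + b') := by
      intro a b a' b'
      rw [← tv_mul, ← tv_mul, mul_assoc, mul_assoc, ← mul_assoc _ (SpecialLinearGroup.transvection hik a'),
        ← tv_comm hik hjk a' b, mul_assoc]
    rw [e, e, add_comm a, add_comm b]
  · intro h
    rw [← tv_zero (F := F) hik] at h
    exact one_ne_zero (tv_inj hik h)
  · rintro _ ⟨t, rfl⟩ ht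
    have ht0 : t ≠ 0 := fun h => ht (by rw [h, tv_zero])
    refine ⟨SpecialLinearGroup.transvection hjk t⁻¹, ⟨0, _, by rw [tv_zero, one_mul]⟩, ?_⟩
    rw [hcm, mul_inv_cancel₀ ht0]
  · refine (Nat.card_congr (Equiv.ofBijective (fun t : F => (⟨SpecialLinearGroup.transvection hij t, ⟨t, rfl⟩⟩ :
      lX F hij)) ⟨?_, ?_⟩)).symm
    · intro s t h
      exact tv_inj hij (congrArg Subtype.val h)
    · rintro ⟨_, t, rfl⟩
      exact ⟨t, rfl⟩

/-- **`PSL_n(q)`, `n ≥ 3`** -/
theorem low_psl [Fintype F] {p : ℕ} [hp : Fact p.Prime] [CharP F p] {n : ℕ} (hn : 3 ≤ n) :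
    Low p (ProjectiveSpecialLinearGroup (Fin n) F) (Nat.card F) := by
  have h0 : Low p (SpecialLinearGroup (Fin n) F) (Nat.card F) :=
    low_sl (i := ⟨0, by omega⟩) (j := ⟨1, by omega⟩) (k := ⟨2, by omega⟩) (by simp) (by simp) (by simp)
  refine Low.map h0 (QuotientGroup.mk' (Subgroup.center (SpecialLinearGroup (Fin n) F))) ?_
  rintro g ⟨k, hk⟩ hg
  have h1 : g ∈ Subgroup.center (SpecialLinearGroup (Fin n) F) := by
    rwa [← QuotientGroup.eq_one_iff]
  have h2 : orderOf g ∣ p ^ k := orderOf_dvd_of_pow_eq_one hk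
  have h3 : orderOf g ∣ Nat.gcd n (Fintype.card F - 1) := by
    rw [← S0280.card_center_SL (K := F) (n := n) (by omega), ← Subgroup.orderOf_mk g h1]
    exact orderOf_dvd_natCard _
  have h4 : (p ^ k).Coprime (Nat.gcd n (Fintype.card F - 1)) := by
    apply Nat.Coprime.pow_left
    rw [hp.out.coprime_iff_not_dvd]
    intro h5
    have h6 : p ∣ Fintype.card F - 1 := h5.trans (Nat.gcd_dvd_right _ _)
    have h7 : p ∣ Fintype.card F := by
      obtain ⟨n, -, hn⟩ := FiniteField.card F p
      rw [hn]
      exact dvd_pow_self p n.2.ne'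
    have h8 : 1 ≤ Fintype.card F := Fintype.card_pos
    have h9 := (Nat.dvd_sub h7 h6)
    have h10 : Fintype.card F - (Fintype.card F - 1) = 1 := by omega
    rw [h10] at h9
    exact hp.out.one_lt.ne' (Nat.dvd_one.1 h9)
  exact orderOf_eq_one_iff.1 (Nat.eq_one_of_dvd_coprimes h4 h2 h3)

end sl

end Cfsg.Agent.H103.HT
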